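import Cfsg.Agent.PJ.Mod2

/-!
# S3321: the subgroup `A = 2^10`
`fA b = bw (EA u) b`, `b < 1024`.  Entries of `EA`: `u_i ∈ V0`, `ρ u_i`, `z_i ∈ Z`, `s`.
`ea_A`: `ρ u_i` commutes with `u_j` (read off `ar0..ar2`: `simp [Acts, …]`, or `Acts.conj` at
`b = 1,2,4`), with `ρ u_j` (`V0_comm`), with `Z` (`cen`), with `s` (`s` commutes with `r` and `u_i`).
`card_A` (`card_of_inj`, `mem_closure_iff`): if `fA b = 1` then `θ` kills the `s`-bit; `v ρ(w) = 1`
with `v, w ∈ V0` gives `w ∈ Z` (`inf_r`), and words in `E u` are independent (`inj_of_card`,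
`card_V`, `V_eq`, `Z_eq`).
`fuse`: `r, p0, y, ξ u` normalise `A` and act on `EA` by the matrices
`[8,16,32,1,2,4,64,128,256,512]`, `[1,2,4,9,18,36,64,128,256,512]`, `[2,4,3,16,32,24,192,256,64,512]`,
`[1,2,4,8,272,160,64,128,256,513]` (`p0 ρ p0 = ρ (ρ p0 ρ) p0`, `l ρ l = ρ (ρ l ρ) l`, `l s l = s (s l s) l`).
Their orbits on `1..1023` have lengths/representatives `7/64, 84/1, 84/65, 336/10, 64/512, 448/522`
(certify by a label table and a parent table, python; `decide +kernel`).  Let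
`O b :↔ ∃ n ∈ N(A), n z3 n⁻¹ = fA b` (`z3 = fA 256`); it is a union of orbits containing the first and
not `0`.  If `O 1` or `O 65`: `fA 1 = u`, `fA 65 = u z1 ∈ V0 \\ Z`, done.  Otherwise, by `reg_eq`
(`m = n' n⁻¹`) the number of `c` with `O c ∧ O (v ^^^ c)` is the same for `v = 64` and for every
representative in `O`; for each of the 7 nonempty subsets of `{10, 512, 522}` this fails
(counts `343:[222,342]`, `71:[0,6]`, `407:[84,230,342]`, `455:[12,390]`, `791:[600,614,726]`,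
`519:[14,518]`, `855:[686,734,854]`).  So `O = {64,…,448}` and every `n ∈ N(A)` maps
`Z \\ 1 = {y^i z3 y^-i}` into `Z`, so `n ∈ N(Z) = K`.
-/

set_option autoImplicit false

namespace Cfsg.Agent.PJ.AR

open Subgroup

/-- The orbit labels, 3 bits per vector. -/
def TL : ℕ := 0xdb6db6daebb6d76bb6db6db6d6edb6db6db6db6db6db6db6d76daebb6daedb6db6db6db6db6db6db6db6b76db6db6db6daed76db6db6bb6d76db6db6db6db6baedb6db6db6db6db6db6db6db6db6db6db6db6db6db6d6edb6baedb6b76db6db6db5bb6db6db6db6db6bb6bb6bb5db6db6db6db6db6db6db6db6db6db6db6db5daedaedaedb6db6db6db6daddb6db6db6db6db6db5d76db6db6d76d76db6db6d75db6db6db6db6db6bb6db5d76db5daedb5db5db5db6bb5db6d75db6dadb6db6d7249238a49229149229239239245229248e392491b6934d95249228a492291c9239239239247239248e392491249b6d15249228e49239149229239239247239248a292491b4d36997249238e492391c9239239239245229248a29249126db4915249228e492391c9239229229245229248e392491b4da4d97249238e49239149229229229247239248e39249126d26d17249238a492291c9239229229247239248a292491b69a6995249228a49229149229229229245229248a2924912492490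

/-- Parent (10 bits), generator (2 bits) and depth (4 bits) of every vector. -/
def TP : ℕ := 0x7e7e73f78af7aaf2aaf49af187fe8e796e766adb8e745ada7adc6ad95e705ad87afe9afb7aff7afa83dd7af97afd6af8aad66ad38ad78ad2aad47ad19ad57f61aae67ae37edcaae25eda5ae15ed85ae09ace7acb8acf8aca6acc6ed37acd7ed177ce63f18aef9aea63d977cb7aed8ae87fc66ac37ac77ac26ac47ac17ac58ac06e3e8bf35e3c6e3d6bf46e3b7e386bf07e365e375e346e354e325e336e306e3163bd5f2f8bffabfa4f2a6f2b9bfd9bf873bc73b4abd77bd287a76f239bd58bd07be653b35e9c8be28e9aabe19be58be06e9663b25e947796abcc8bc99bcd9e9183b973b18bef8bea8bec8be98bed7be87bc673b08bc78bc28bc48bc18bc59bc06bb65bb38bb76bb27bb47bb16bb57bb06b9e8ef78b9fbb9a9b9cab996b9d9ef1976a7bbb7bbf7bba7bbc83556bbd7bb87b96bb937b979fe58b94ab916b95afe17e5e9ba38ba77ba28ba4aba1bba59ba08e569b8b7e549b8a9b8c9b899b8d8b886bae5bab7baf7baabbacaba99badaba88b869b838b879f459b849b819b85af41aab69ab3573a673b531f43179ab5aeb99a9eba9b6a9f8a9a5a9c93169a9daeb1472a67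2baabf7aba531d33158abdafa96a968fa77a97ba925a949a918a95afa14e1e4aa34e1c4aa24e1a63135e183e193e168e172e148a8a5e123e134e102e118aae8aab7aaf7aaa670a53118aad8aa8ba86ba83ba87ba824f0233109a85af016a766a736a777a728a746a716a755a707a5e7f77aa5f9f75aa5c9a598a5d7f717a7eaa7b6e6c62e5aa7c8a7976ec7e697e669a535e645e656e629a514e604e617a66aa63aa676a625a644a615a654a607a4e9a4b8a4f9fd55a4c7fd36a4d72c27a6e8a6b66cc52e16a6c7a698a6d7a686a467ec76ec452e05a446ec36a457ec19b76ab737b7752a75f3a6f3b9b75af39ab5e9b5b82ae52a68b5c6f339b5daf316b7e7e2f7b7f72a57b7c6e2b6e287e294e264e276e249e253e223e235e209b50569c8f9f8b6742a3ab647b618b65af996b4e569472aa42a28b4cab498b4daf918b6e8b6b768c62a18b6c7b698b6d8b68ab46ab4382a89e85ab44ab419b45ae818ffe6b33ab379ffd9b34ab317b3572475b1e5b1b5b1f7b1a5b1c6b195b1d4b18ab3e6b3b7eec5b3a7b3cab396b3d62459b166b134b174b129b145b113b153b109b266b237b279f5dbf5a9b218b25bb209b0e7b0b9b0f6b0a8b0c9b098b0d9b087b2e6b2b5b2f4b2a8b2c9b29bb2dbb286e465b035e444b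02be42ab01cb05bb007a365a335a374a325a346a316a356a304a1e6a1b5a1f4a1a4a1c3a195a1d5a186a3e6a3b66287a3a5a3c7a396a3d52053a163a138a175a122a142a119a154a104a263a234a273a2256183213220b42037a0e2a0b8a0f1a0a26114a09120a3a087a2e6a2b7a2f8a2a160a020a360822015a064a034e043a023e022a011e00020088f668f388f76c7c71df98f178f578f058de78db68df6c7458dc5c7268dd68d878fe78fb98ff88fa68fc88f978fd88f875e371f498d748d261dc7d62a8d538d06cdf5cde6cdd5cdc7cdbb8e1a8e56cd89cd761f298cf6cd4b8cc4cd2a8cd3cd088ee78eb88ef98eab8ecb8e9a8ed98e888c678c398c728c271d841d0a8c528c08c3f6c3e6c3d5c3c6c3b7c3a7c397c385c377c366c355c345c334c326c316c3071bd71b59d2da9fa7d2b85af99fd8d2861bc5d26a9d759d26d234d22a9d549d06c9f61b3759e5c9c59e4b9e1a9e549e081ba51b295975c94a9ccb9c999cda9c889ee79eb89ef99ea99ec89e9a9ed99e881b871b091a859c239c4b9c1a9c539c089b669b369b759b269b479b179b579b0799e699b799f7cf4699c7156899d599879be79bb99bf89ba69bc89b979bd89b86996756299975de469946154a9954de06c5f7c5e79a75c5c69a4b9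a1b9a559a0898e6c56998f5c54a98cb989998da98889ae89ab89af99aab9aca9a9a9ad99a889864983998751606984b981a98549808cbf78b39cbd6cbc611f911788b57cb8889e789b65335532511e4116889d68988daf752b88bfa8ba611d9daa98bd78b865234522a8976da4511c3114a8955da05c1f4c1e5c1d4c1c6c1b4c1a3c195c188c173c169c152c143c134c122c113c1088ae78ab88af98aa450a3111a8ad98a8813878836887612061184110a885688088766873687758726874787178757870785e7d76685f60e6585c74f4885d6d70787e787b987fa87a687c8879a87d88785c675c6698576c644c634c62a8555c6058664863586748626864b861a8655860884e64d4984f50e2b84c3849a84d2848886e886b986fa86ab86cb869a86d9868884670f0984760e068441841a84518407976797380af50a764bc94bd89756970895e795b7d3550a66d335d32895d69587c2f7c2e9c2d8c2c6c2b8c2a7c298c284c274c269c255c243c233c22ac214c20549c7d9e70ab40a36d9bb961a9655d989d97549490aa40a2a94cb949994da948896e796b896f996a996c8969a96d99685946794390a850a06098b941a945594089366933993759326934993179357930591e791b691f591a591c4919691d69188cef793b993fa93a793c9ceaa93d8938491649139917591239143911a915491059266923792749227d5bb921b9256d58890e590b990f490aa90cb909990da908892e792b992fa92ab92ca9292448104189067903990759027058b9010041004078365833583748325834683168356830481e681b581f481a481c3819581d5818683e683b883f783a583c7839683d783838163813881748122814281198153810482638234827382258243013200b4820780e280b880f180a24113809100a2808782e682b782f882a140a000a2408100158064803680728023804180100010000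

/-- The orbit label. -/
def lab (b : ℕ) : ℕ := TL >>> (3 * b) % 8
/-- The parent. -/
def par (b : ℕ) : ℕ := TP >>> (16 * b) % 1024
/-- The generator. -/
def gen (b : ℕ) : ℕ := TP >>> (16 * b + 10) % 4
/-- The depth. -/
def dep (b : ℕ) : ℕ := TP >>> (16 * b + 12) % 16

/-- The matrices of the four generators. -/
def M : ℕ → List ℕ
  | 0 => [8, 16, 32, 1, 2, 4, 64, 128, 256, 512]
  | 1 => [1, 2, 4, 9, 18, 36, 64, 128, 256, 512]
  | 2 => [2, 4, 3, 16, 32, 24, 192, 256, 64, 512]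
  | _ => [1, 2, 4, 8, 272, 160, 64, 128, 256, 513]

/-- The orbit representatives. -/
def rep : ℕ → ℕ
  | 1 => 64
  | 2 => 1
  | 3 => 65
  | 4 => 10
  | 5 => 512
  | 6 => 522
  | _ => 0

theorem tree : ∀ b < 1024, b = rep (lab b) ∨
    (dep (par b) < dep b ∧ lab (par b) = lab b ∧ lin (M (gen b)) (par b) = b) := by
  decide +kernel

/-- A union of orbits. -/
def P (i j k : Bool) (b : ℕ) : Bool :=
  lab b == 1 || (i && lab b == 4) || (j && lab b == 5) || (k && lab b == 6)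

/-- The number of ways to write `v` as a sum of two elements of `P i j k`. -/
def cnt (i j k : Bool) (v : ℕ) : ℕ :=
  ((Finset.range (2 ^ 10)).filter fun c => P i j k c = true ∧ P i j k (v ^^^ c) = true).card

theorem cnt_ne : ∀ i j k : Bool, (i = true → cnt i j k 64 ≠ cnt i j k 10) ∧
    (i = false → j = true → cnt i j k 64 ≠ cnt i j k 512) ∧
    (i = false → j = false → k = true → cnt i j k 64 ≠ cnt i j k 522) := by
  decide +kernel

theorem lab_one : ∀ b < 1024, lab b = 1 → lin [64, 128, 256] (b / 64) = b := by decide +kernel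

theorem lab_Z : ∀ d < 8, lin [64, 128, 256] d = 0 ∨ lab (lin [64, 128, 256] d) = 1 := by
  decide +kernel

theorem bits1 : ∀ c < 128, ∀ d < 8, lin [1, 2, 4] c = lin [64, 128, 256] d → lin [1, 2, 4] c = 0 := by
  decide +kernel

theorem bits2 : ∀ c < 1024, c / 512 % 2 ≠ 1 → lin [1, 2, 4] (c / 8) = 0 →
    lin [1, 2, 4] c ^^^ lin [64, 128, 256] (c / 64) = 0 → c = 0 := by
  decide +kernel

variable {G : Type*} [Group G]

theorem orb {N : Subgroup G} {f : ℕ → G}
    (hk : ∀ i, ∃ k ∈ N, ∀ b, k * f b * k⁻¹ = f (lin (M i) b)) :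
    ∀ b < 1024, ∃ n ∈ N, n * f (rep (lab b)) * n⁻¹ = f b := by
  intro b hb
  induction hd : dep b using Nat.strong_induction_on generalizing b with
  | _ d ih =>
    rcases tree b hb with e | ⟨h1, h2, h3⟩
    · exact ⟨1, one_mem _, by rw [← e, one_mul, inv_one, mul_one]⟩
    · obtain ⟨n, hn, e⟩ := ih _ (hd ▸ h1) (par b) (Nat.mod_lt _ (by norm_num)) rfl
      obtain ⟨k, hk, e'⟩ := hk (gen b)
      refine ⟨k * n, mul_mem hk hn, ?_⟩
      rw [← h2, ← congrArg f h3, ← e', ← e]; group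

theorem trich {A : Subgroup G} {f : ℕ → G} (h : ∀ g, g ∈ A ↔ ∃ a < 2 ^ 10, f a = g)
    (hi : ∀ a < 2 ^ 10, ∀ b < 2 ^ 10, f a = f b → a = b)
    (hm : ∀ a < 2 ^ 10, ∀ b < 2 ^ 10, f (a ^^^ b) = f a * f b) (f0 : f 0 = 1)
    (ho : ∀ b < 1024, ∃ n ∈ normalizer (A : Set G), n * f (rep (lab b)) * n⁻¹ = f b)
    (h1 : ¬ ∃ n ∈ normalizer (A : Set G), n * f 64 * n⁻¹ = f 1)
    (h2 : ¬ ∃ n ∈ normalizer (A : Set G), n * f 64 * n⁻¹ = f 65) :
    ∀ b < 1024, (∃ n ∈ normalizer (A : Set G), n * f 64 * n⁻¹ = f b) → lab b = 1 := by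
  classical
  set O : ℕ → Prop := fun b => ∃ n ∈ normalizer (A : Set G), n * f 64 * n⁻¹ = f b with hO
  have tr : ∀ m ∈ normalizer (A : Set G), ∀ a b, m * f a * m⁻¹ = f b → (O a ↔ O b) :=
    fun m hm a b e => ⟨fun ⟨n, hn, l⟩ => ⟨m * n, mul_mem hm hn, by rw [← e, ← l]; group⟩,
      fun ⟨n, hn, l⟩ => ⟨m⁻¹ * n, mul_mem (inv_mem hm) hn, by
        rw [show f a = m⁻¹ * f b * m by rw [← e]; group, ← l]; group⟩⟩
  have h0 : ¬ O 0 := fun ⟨n, _, l⟩ => by
    rw [f0, conj_eq_one_iff, ← f0] at l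
    exact absurd (hi 64 (by norm_num) 0 (by norm_num) l) (by norm_num)
  have h64 : O 64 := ⟨1, one_mem _, by group⟩
  have key : ∀ b < 1024, (O b ↔ P (decide (O 10)) (decide (O 512)) (decide (O 522)) b = true) := by
    intro b hb
    obtain ⟨n, hn, e⟩ := ho b hb
    rw [← tr n hn _ _ e, P]
    have : lab b < 8 := Nat.mod_lt _ (by norm_num)
    change ¬ O 1 at h1
    change ¬ O 65 at h2
    generalize lab b = t at this ⊢
    interval_cases t <;> simp [rep, h0, h1, h2, h64]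
  have eq : ∀ v < 1024, O v → cnt (decide (O 10)) (decide (O 512)) (decide (O 522)) 64 =
      cnt (decide (O 10)) (decide (O 512)) (decide (O 522)) v := by
    rintro v hv ⟨n, hn, e⟩
    have := reg_eq h hi hm hn O (fun a _ b _ => tr n hn a b) (by norm_num) hv e
    have c : ∀ w < 2 ^ 10, cnt (decide (O 10)) (decide (O 512)) (decide (O 522)) w =
        ((Finset.range (2 ^ 10)).filter fun c => O c ∧ O (w ^^^ c)).card := fun w hw =>
      congrArg Finset.card (Finset.filter_congr fun c hc => by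
        rw [key c (Finset.mem_range.1 hc), key _ (Nat.xor_lt_two_pow hw (Finset.mem_range.1 hc))])
    rw [c 64 (by norm_num), c v hv, this]
  obtain ⟨c1, c2, c3⟩ := cnt_ne (decide (O 10)) (decide (O 512)) (decide (O 522))
  have n1 : ¬ O 10 := fun l => c1 (decide_eq_true l) (eq 10 (by norm_num) l)
  have n2 : ¬ O 512 := fun l => c2 (decide_eq_false n1) (decide_eq_true l) (eq 512 (by norm_num) l)
  have n3 : ¬ O 522 := fun l =>
    c3 (decide_eq_false n1) (decide_eq_false n2) (decide_eq_true l) (eq 522 (by norm_num) l)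
  intro b hb l
  simpa [P, n1, n2, n3] using (key b hb).1 l

theorem bw_append (l m : List G) (b : ℕ) : bw (l ++ m) b = bw l b * bw m (b / 2 ^ l.length) := by
  induction l generalizing b with
  | nil => simp [bw]
  | cons c l ih =>
    rw [List.cons_append, bw, bw, ih, mul_assoc, List.length_cons, Nat.div_div_eq_div_mul, pow_succ']

theorem sw {a b c : G} (h : a * b * a⁻¹ = c * b) (hc : c * c = 1) : b * a * b⁻¹ = c * a := by
  rw [show b * a * b⁻¹ = c⁻¹ * (c * b) * a * b⁻¹ by group, ← h, inv_eq_of_mul_eq_one_right hc]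
  group

theorem norm_of_acts [Finite G] {E : List G} {k : G} {A : List ℕ} (hE : EA E) (h : Acts k E A) :
    k ∈ normalizer ((closure {c | c ∈ E} : Subgroup G) : Set G) :=
  mem_normalizer_fintype fun g hg => by
    obtain ⟨b, -, rfl⟩ := (mem_closure_iff hE).1 hg
    rw [h.conj hE]
    exact bw_mem (fun c hc => subset_closure hc) _

end Cfsg.Agent.PJ.AR

namespace Cfsg.Agent.PJ.Base

open Subgroup
open scoped commutatorElement

variable {G : Type*} [Group G] [Finite G] {B : Base G} {u : G}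

omit [Finite G] in
theorem Fr.z_mem (h : B.Fr u) : B.z1 u ∈ B.Z ∧ B.z2 u ∈ B.Z ∧ B.z3 u ∈ B.Z := by
  rw [h.Z_eq]
  exact ⟨subset_closure (by simp), subset_closure (by simp), subset_closure (by simp)⟩

omit [Finite G] in
theorem rs_comm (B : Base G) : B.s * B.r = B.r * B.s := by
  rw [s, r, ← map_mul, ← map_mul, perm_rel.2.2.2.2.1]

omit [Finite G] in
theorem r_sq (B : Base G) : B.r * B.r = 1 := by
  rw [r, ← map_mul, perm_rel.2.2.2.2.2.2.2.2.2.2.1, map_one]

omit [Finite G] in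
theorem s_sq (B : Base G) : B.s * B.s = 1 := by
  rw [s, ← map_mul, perm_rel.2.2.2.2.2.2.2.2.2.1, map_one]

omit [Finite G] in
theorem mem_EA {c : G} (hc : c ∈ B.EA u) :
    c ∈ [u, B.u1 u, B.u2 u, B.z1 u, B.z2 u, B.z3 u] ∨ (∃ w ∈ [u, B.u1 u, B.u2 u], c = B.ρ w) ∨
      c = B.s := by
  simp only [EA, List.mem_cons, List.not_mem_nil, or_false] at hc ⊢
  rcases hc with rfl | rfl | rfl | rfl | rfl | rfl | rfl | rfl | rfl | rfl <;> simp

theorem Fr.ea_A (h : B.Fr u) : PJ.EA (B.EA u) := by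
  have hW : ∀ c ∈ [u, B.u1 u, B.u2 u, B.z1 u, B.z2 u, B.z3 u], c ∈ B.E u := by simp [E, E0]
  have hU : ∀ c ∈ [u, B.u1 u, B.u2 u], c ∈ [u, B.u1 u, B.u2 u, B.z1 u, B.z2 u, B.z3 u] := by simp
  have h0 := h.ar0
  have h1 := h.ar1
  have h2 := h.ar2
  have h3 := h.as
  simp only [Acts, E, E0, Ar0, Ar1, Ar2, As, mul_inv_eq_iff_eq_mul,
    bw, List.map_cons, List.map_nil, List.cons_append, List.nil_append, Nat.reduceMod,
    Nat.reduceDiv, one_mul, mul_one, List.cons.injEq, and_true, zero_ne_one, ↓reduceIte] at h0 h1 h2 h3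
  have hρ : ∀ w ∈ [u, B.u1 u, B.u2 u], ∀ c ∈ [u, B.u1 u, B.u2 u, B.z1 u, B.z2 u, B.z3 u],
      B.ρ w * c = c * B.ρ w := by
    simp only [List.forall_mem_cons, List.not_mem_nil, h0, h1, h2, true_and, IsEmpty.forall_iff,
      implies_true]
  have hs : ∀ c ∈ [u, B.u1 u, B.u2 u, B.z1 u, B.z2 u, B.z3 u], B.s * c = c * B.s := by
    simp only [List.forall_mem_cons, List.not_mem_nil, h3, true_and, IsEmpty.forall_iff,
      implies_true]
  have hsρ : ∀ w ∈ [u, B.u1 u, B.u2 u], B.s * B.ρ w = B.ρ w * B.s := fun w hw =>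
    (((show Commute B.s B.r from B.rs_comm).mul_right (hs w (hU w hw))).mul_right
      (show Commute B.s B.r from B.rs_comm).inv_right).eq
  intro c hc
  refine ⟨?_, fun d hd => ?_⟩
  · rcases mem_EA hc with hc | ⟨w, hw, rfl⟩ | rfl
    · exact (h.ea c (hW c hc)).1
    · rw [ρ, conj_mul, (h.ea w (hW w (hU w hw))).1, mul_one, mul_inv_cancel]
    · exact B.s_sq
  · rcases mem_EA hc with hc | ⟨w, hw, rfl⟩ | rfl <;>
      rcases mem_EA hd with hd | ⟨w', hw', rfl⟩ | rfl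
    · exact (h.ea c (hW c hc)).2 d (hW d hd)
    · exact (hρ _ hw' c hc).symm
    · exact (hs c hc).symm
    · exact hρ _ hw d hd
    · rw [ρ, ρ, conj_mul, conj_mul, (h.ea w (hW w (hU w hw))).2 w' (hW w' (hU w' hw'))]
    · exact (hsρ w hw).symm
    · exact hs d hd
    · exact hsρ w' hw'
    · rfl

theorem Fr.inj_A (h : B.Fr u) : ∀ a < 2 ^ 10, ∀ b < 2 ^ 10,
    bw (B.EA u) a = bw (B.EA u) b → a = b := by
  have hE : ∀ a < 2 ^ 11, bw (B.E u) a = 1 → a = 0 := fun a ha e =>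
    inj_of_card (A := B.V) (n := 2 ^ 11) (f := bw (B.E u))
      (fun g => by rw [h.V_eq]; exact mem_closure_iff h.ea) B.card_V a ha 0 (by norm_num)
      (by rw [e, bw_zero])
  have eU : ∀ c, bw [u, B.u1 u, B.u2 u] c = bw (B.E u) (lin [1, 2, 4] c) := fun c => by
    rw [← bw_lin h.ea]
    simp only [E, E0, List.map_cons, List.map_nil, List.cons_append, List.nil_append]
    refine congrArg (bw · c) ?_
    simp only [bw, Nat.reduceMod, Nat.reduceDiv, one_mul, mul_one, zero_ne_one, ↓reduceIte]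
  have eZ : ∀ c, bw [B.z1 u, B.z2 u, B.z3 u] c = bw (B.E u) (lin [64, 128, 256] c) := fun c => by
    rw [← bw_lin h.ea]
    simp only [E, E0, List.map_cons, List.map_nil, List.cons_append, List.nil_append]
    refine congrArg (bw · c) ?_
    simp only [bw, Nat.reduceMod, Nat.reduceDiv, one_mul, mul_one, zero_ne_one, ↓reduceIte]
  have mU : ∀ c, bw [u, B.u1 u, B.u2 u] c ∈ B.V0 := bw_mem fun c hc => by
    rw [h.V0_eq]
    refine subset_closure ?_
    simp only [List.mem_cons, List.not_mem_nil, or_false] at hc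
    rcases hc with rfl | rfl | rfl <;> simp [E0]
  have mZ : ∀ c, bw [B.z1 u, B.z2 u, B.z3 u] c ∈ B.Z := bw_mem fun c hc => by
    rw [h.Z_eq]; exact subset_closure hc
  have zero : ∀ c < 2 ^ 10, bw (B.EA u) c = 1 → c = 0 := fun c hc e => by
    have e' : bw [u, B.u1 u, B.u2 u] c * (B.ρ (bw [u, B.u1 u, B.u2 u] (c / 8)) *
        (bw [B.z1 u, B.z2 u, B.z3 u] (c / 64) * (if c / 512 % 2 = 1 then B.s else 1))) = 1 := by
      refine Eq.trans (Eq.symm ?_) e
      rw [show B.EA u = [u, B.u1 u, B.u2 u] ++ ([u, B.u1 u, B.u2 u].map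
        (fun c => B.r * c * B.r⁻¹) ++ ([B.z1 u, B.z2 u, B.z3 u] ++ [B.s])) from rfl,
        AR.bw_append, AR.bw_append, AR.bw_append, ← conj_bw]
      simp only [List.length_cons, List.length_nil, List.length_map, Nat.reduceAdd, Nat.reducePow,
        Nat.div_div_eq_div_mul, Nat.reduceMul, ρ]
      rw [show bw [B.s] (c / 512) = (if c / 512 % 2 = 1 then B.s else 1) * 1 from rfl, mul_one]
    have h9 : c / 512 % 2 ≠ 1 := fun l => by
      have hs : B.s ∈ B.L := by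
        rw [if_pos l, mul_eq_one_iff_inv_eq, ← inv_mul_eq_iff_eq_mul,
          ← inv_mul_eq_iff_eq_mul] at e'
        rw [← e']
        exact mul_mem (inv_mem (B.Z_le (mZ _))) (mul_mem
          (inv_mem (B.conj_L (B.σ_mem _) (mU _).1)) (inv_mem (mU _).1))
      have := (B.ker ⟨B.σ ps, B.σ_mem ps⟩).2 hs
      rw [B.θσ, Prod.mk_eq_one] at this
      exact absurd this.1 (by decide +kernel)
    rw [if_neg h9, mul_one] at e'
    have h3 : lin [1, 2, 4] (c / 8) = 0 := by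
      have : B.ρ (bw [u, B.u1 u, B.u2 u] (c / 8)) ∈ B.V0 := by
        rw [mul_eq_one_iff_inv_eq, ← mul_inv_eq_iff_eq_mul] at e'
        rw [← e']
        exact mul_mem (inv_mem (mU _)) (inv_mem (B.Z_le_V0 (mZ _)))
      have := B.inf_r (mU _) this
      rw [h.Z_eq, mem_closure_iff (fun c hc => ⟨(h.ea c (by
        simp only [List.mem_cons, List.not_mem_nil, or_false] at hc
        rcases hc with rfl | rfl | rfl <;> simp [E, E0])).1, fun d hd =>
          (B.cen d (B.Z_le (h.Z_eq ▸ subset_closure hd))).1 (h.Z_eq ▸ subset_closure hd) c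
            (B.Z_le (h.Z_eq ▸ subset_closure hc))⟩)] at this
      obtain ⟨d, hd, l⟩ := this
      refine AR.bits1 _ (by omega) d hd (Nat.eq_of_xor_eq_zero (hE _ (Nat.xor_lt_two_pow
        (lin_lt (by decide) _) (lin_lt (by decide) _)) ?_))
      rw [bw_xor h.ea, ← eU, ← eZ, l, eU, ← bw_xor h.ea, Nat.xor_self, bw_zero]
    refine AR.bits2 c hc h9 h3 (hE _ (Nat.xor_lt_two_pow
        (lin_lt (by decide) _) (lin_lt (by decide) _)) ?_)
    rw [eU (c / 8), h3, bw_zero, ρ, mul_one, mul_inv_cancel, one_mul] at e'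
    rw [bw_xor h.ea, ← eU, ← eZ, e']
  intro a ha b hb e
  exact Nat.eq_of_xor_eq_zero (zero _ (Nat.xor_lt_two_pow ha hb)
    (by rw [bw_xor h.ea_A, e, ← bw_xor h.ea_A, Nat.xor_self, bw_zero]))

theorem Fr.card_A (h : B.Fr u) : Nat.card (B.A u) = 1024 := by
  exact card_of_inj (n := 2 ^ 10) (f := bw (B.EA u)) (fun g => mem_closure_iff h.ea_A) h.inj_A

theorem Fr.fuse (h : B.Fr u) (hn : ¬ normalizer (B.A u : Set G) ≤ B.K) :
    ∃ g : G, ∃ z ∈ B.Z, g * z * g⁻¹ ∈ B.V ∧ g * z * g⁻¹ ∉ B.Z := by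
  have hA := h.ea_A
  obtain ⟨m1, m2, m3⟩ := h.z_mem
  have h0 := h.ar0
  have h1 := h.ar1
  have h2 := h.ar2
  have h3 := h.as
  have h4 := h.ay
  simp only [Acts, E, E0, Ar0, Ar1, Ar2, As, Ay,
    bw, List.map_cons, List.map_nil, List.cons_append, List.nil_append, Nat.reduceMod,
    Nat.reduceDiv, one_mul, mul_one, List.cons.injEq, and_true, zero_ne_one, ↓reduceIte]
    at h0 h1 h2 h3 h4
  have cE : ∀ c ∈ B.E u, ∀ d ∈ B.E u, c * d * c⁻¹ = d := fun c hc d hd =>
    mul_inv_eq_iff_eq_mul.2 ((h.ea c hc).2 d hd)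
  have c0 := cE B.p0 (by simp [E])
  have c1 := cE (B.ξ u) (by simp [E, E0])
  have sq := fun c hc => (h.ea c hc).1
  have c2 := (h.ea (B.ξ u) (by simp [E, E0])).2
  simp only [E, E0, List.cons_append, List.nil_append, List.forall_mem_cons] at c0 c1 c2 sq
  have rr : ∀ w, B.r * B.ρ w * B.r⁻¹ = w := fun w => by
    rw [ρ, show B.r * (B.r * w * B.r⁻¹) * B.r⁻¹ = (B.r * B.r) * w * (B.r * B.r)⁻¹ by group, B.r_sq]
    group
  have rz : ∀ z ∈ B.Z, B.r * z * B.r⁻¹ = z := fun z hz => mul_inv_eq_iff_eq_mul.2 (B.σ_Z pr hz)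
  have yr : ∀ w, B.y * B.ρ w * B.y⁻¹ = B.ρ (B.y * w * B.y⁻¹) := fun w => by
    have : B.r * B.y = B.y * B.r := B.σy pr
    rw [ρ, ρ, show B.r * (B.y * w * B.y⁻¹) * B.r⁻¹ = (B.r * B.y) * w * (B.r * B.y)⁻¹ by group, this]
    group
  have cz : ∀ z ∈ B.Z, ∀ w ∈ [u, B.u1 u, B.u2 u], z * B.ρ w = B.ρ w * z := fun z hz w hw =>
    ((B.cen z (B.Z_le hz)).1 hz _ (B.conj_L (B.σ_mem pr) (B.mem_V0.1 (by
      rw [h.V0_eq]
      refine subset_closure ?_
      simp only [List.mem_cons, List.not_mem_nil, or_false] at hw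
      rcases hw with rfl | rfl | rfl <;> simp [E0])).1)).symm
  have act : ∀ i, ∃ k, Acts k (B.EA u) (AR.M i) := by
    intro i
    match i with
    | 0 =>
      refine ⟨B.r, ?_⟩
      simp only [Acts, EA, AR.M, bw, List.map_cons, List.map_nil, Nat.reduceMod,
        Nat.reduceDiv, one_mul, mul_one, List.cons.injEq, and_true, zero_ne_one, ↓reduceIte]
      exact ⟨rfl, rfl, rfl, rr _, rr _, rr _, rz _ m1, rz _ m2, rz _ m3,
        mul_inv_eq_iff_eq_mul.2 B.rs_comm.symm⟩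
    | 1 =>
      refine ⟨B.p0, ?_⟩
      simp only [Acts, EA, AR.M, bw, List.map_cons, List.map_nil, Nat.reduceMod,
        Nat.reduceDiv, one_mul, mul_one, List.cons.injEq, and_true, zero_ne_one, ↓reduceIte]
      refine ⟨c0.1, c0.2.1, c0.2.2.1, AR.sw h0.2.2.2.2.2.2.2.2.2.1 sq.1,
        AR.sw h1.2.2.2.2.2.2.2.2.2.1 sq.2.1, AR.sw h2.2.2.2.2.2.2.2.2.2.1 sq.2.2.1,
        c0.2.2.2.2.2.2.1, c0.2.2.2.2.2.2.2.1, c0.2.2.2.2.2.2.2.2.1, ?_⟩
      rw [mul_inv_eq_iff_eq_mul, s, p0, ← map_mul, ← map_mul, perm_rel.2.2.2.2.2.1]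
    | 2 =>
      refine ⟨B.y, ?_⟩
      simp only [Acts, EA, AR.M, bw, List.map_cons, List.map_nil, Nat.reduceMod,
        Nat.reduceDiv, one_mul, mul_one, List.cons.injEq, and_true, zero_ne_one, ↓reduceIte]
      refine ⟨h4.1, h4.2.1, h4.2.2.1, by rw [yr, h4.1], by rw [yr, h4.2.1], ?_,
        h4.2.2.2.2.2.2.1, h4.2.2.2.2.2.2.2.1, h4.2.2.2.2.2.2.2.2.1,
        mul_inv_eq_iff_eq_mul.2 (B.σy ps).symm⟩
      rw [yr, h4.2.2.1, ρ, ρ, ρ, conj_mul]
    | n + 3 =>
      refine ⟨B.ξ u, ?_⟩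
      simp only [Acts, EA, AR.M, bw, List.map_cons, List.map_nil, Nat.reduceMod,
        Nat.reduceDiv, one_mul, mul_one, List.cons.injEq, and_true, zero_ne_one, ↓reduceIte]
      refine ⟨c1.1, c1.2.1, c1.2.2.1, ?_, ?_, ?_,
        c1.2.2.2.2.2.2.1, c1.2.2.2.2.2.2.2.1, c1.2.2.2.2.2.2.2.2.1, AR.sw h3.2.2.2.1 sq.1⟩
      · exact mul_inv_eq_iff_eq_mul.2 (mul_inv_eq_iff_eq_mul.1 h0.2.2.2.1).symm
      · rw [← cz _ m3 _ (by simp)]
        exact AR.sw (h1.2.2.2.1.trans c2.2.2.2.2.2.2.2.2.1) sq.2.2.2.2.2.2.2.2.1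
      · rw [← cz _ m2 _ (by simp)]
        exact AR.sw (h2.2.2.2.1.trans c2.2.2.2.2.2.2.2.1) sq.2.2.2.2.2.2.2.1
  have mem : ∀ g, g ∈ B.A u ↔ ∃ a < 2 ^ 10, bw (B.EA u) a = g := fun g => mem_closure_iff hA
  have ho := AR.orb (N := normalizer (B.A u : Set G)) (f := bw (B.EA u)) fun i => by
    obtain ⟨k, hk⟩ := act i
    exact ⟨k, AR.norm_of_acts hA hk, hk.conj hA⟩
  have eZ : ∀ c, bw [B.z1 u, B.z2 u, B.z3 u] c = bw (B.EA u) (lin [64, 128, 256] c) := fun c => by
    rw [← bw_lin hA]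
    simp only [EA, List.map_cons, List.map_nil]
    refine congrArg (bw · c) ?_
    simp only [bw, Nat.reduceMod, Nat.reduceDiv, one_mul, mul_one, zero_ne_one, ↓reduceIte]
  have mZ : ∀ z, z ∈ B.Z ↔ ∃ d < 8, bw (B.EA u) (lin [64, 128, 256] d) = z := fun z => by
    rw [h.Z_eq, mem_closure_iff (fun c hc => ⟨B.sqZ c (h.Z_eq ▸ subset_closure hc), fun d hd =>
      (B.cen d (B.Z_le (h.Z_eq ▸ subset_closure hd))).1 (h.Z_eq ▸ subset_closure hd) c
        (B.Z_le (h.Z_eq ▸ subset_closure hc))⟩)]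
    simp only [eZ]
    rfl
  have e64 : bw (B.EA u) 64 = B.z1 u := by
    simp only [EA, bw, Nat.reduceMod, Nat.reduceDiv, one_mul, mul_one, zero_ne_one, ↓reduceIte]
  have out : ∀ b < 2 ^ 10, (∀ d < 8, lin [64, 128, 256] d ≠ b) → bw (B.EA u) b ∈ B.V0 →
      (∃ n ∈ normalizer (B.A u : Set G), n * bw (B.EA u) 64 * n⁻¹ = bw (B.EA u) b) →
      ∃ g : G, ∃ z ∈ B.Z, g * z * g⁻¹ ∈ B.V ∧ g * z * g⁻¹ ∉ B.Z := by
    rintro b hb l hv ⟨n, -, e⟩
    refine ⟨n, _, e64 ▸ m1, ?_, ?_⟩ <;> rw [e]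
    · exact mem_sup_left hv
    · rw [mZ]
      rintro ⟨d, hd, e⟩
      exact l d hd (h.inj_A _ (lin_lt (by decide) _) b hb e)
  have hu : u ∈ B.V0 := h.V0_eq ▸ subset_closure (by simp [E0])
  by_contra hc
  have key := AR.trich mem h.inj_A (fun a _ b _ => bw_xor hA a b) (bw_zero _) ho
    (fun l => hc (out 1 (by norm_num) (by decide) (by
      simpa only [EA, bw, Nat.reduceMod, Nat.reduceDiv, one_mul, mul_one, zero_ne_one,
        ↓reduceIte] using hu) l))
    (fun l => hc (out 65 (by norm_num) (by decide) (by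
      simpa only [EA, bw, Nat.reduceMod, Nat.reduceDiv, one_mul, mul_one, zero_ne_one,
        ↓reduceIte] using mul_mem hu (B.Z_le_V0 m1)) l))
  refine hn fun n hn' => ?_
  rw [B.K_eq]
  refine mem_normalizer_fintype fun z hz => ?_
  obtain ⟨d, hd, rfl⟩ := (mZ z).1 hz
  rcases AR.lab_Z d hd with l | l
  · rw [l, bw_zero, mul_one, mul_inv_cancel]; exact one_mem _
  · obtain ⟨n0, hn0, e⟩ := ho _ (lin_lt (n := 10) (l := [64, 128, 256]) (by decide) d)
    rw [l] at e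
    obtain ⟨b, hb, e'⟩ := (mem _).1 ((mem_normalizer_iff.1 hn' _).1
      ((mem _).2 ⟨_, lin_lt (n := 10) (l := [64, 128, 256]) (by decide) d, rfl⟩))
    have := key b hb ⟨n * n0, mul_mem hn' hn0, by
      rw [e', ← e]; change _ = n * (n0 * bw (B.EA u) 64 * n0⁻¹) * n⁻¹; group⟩
    change _ ∈ B.Z
    rw [← e', ← AR.lab_one b hb this, ← eZ]
    exact bw_mem (fun c hc => h.Z_eq ▸ subset_closure hc) _

end Cfsg.Agent.PJ.Base
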