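import Cfsg.Agent.R24.Tr
import Cfsg.Agent.R24.GenA
import Cfsg.Agent.PJ.Bw

/-!
# S3321: the situation `2^11 . (trio group)`

`Tri G` is a subgroup `V = 2^11` of `G` with `Y = N_K(V)` acting on `V` as the trio group `Tr` acts
on the even cocode `co`.  The API is a copy of `R24.St` with `Y` in place of `M = N(V)`.
-/

set_option autoImplicit false

namespace Cfsg.Agent.PJ

open Cfsg Cfsg.Agent.Comp Cfsg.Agent.Spor Cfsg.Agent.Spor.M24C Cfsg.Agent.R24 Subgroup
open scoped Pointwise commutatorElement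

/-- The code of the trio fixed by `Th`. -/
def trc : ℕ := 0xc24a603da10000149f

/-- The trio group. -/
noncomputable def Tr : Subgroup M24 := MulAction.stabilizer M24 (famOf 3 trc)

theorem card_Tr : Nat.card Tr = 64512 :=
  card_stabilizer_trio (famOf_mem_trios (by decide +kernel))

theorem inH_Tr {c : ℕ} (h : and' (okM c) (fixF 3 c trc) = true) : InH Tr c :=
  inH_of_okM ((and'_eq_true _ _).1 h).1
    (mc_mem_stabilizer_fam ((and'_eq_true _ _).1 h).1 ((and'_eq_true _ _).1 h).2)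

theorem Th_le_Tr : Th ≤ Tr := gen_le fun c hc => inH_Tr ((allL_iff _ _).1
  (show allL tg (fun c => and' (okM c) (fixF 3 c trc)) = true by decide +kernel) c hc)

/-- Cocode coordinates of the basis `E`. -/
def eB : List ℕ := [180, 974, 1646, 430, 348, 1060, 394, 210, 834, 20, 1125]
/-- The inverse matrix. -/
def trL : List ℕ := [1812, 1021, 208, 843, 720, 152, 820, 665, 623, 934, 104]
/-- The image of `x`. -/
def cx : ℕ := 358679296851903876703026463957042350
/-- The image of `y`. -/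
def cy : ℕ := 465538681072489557407362374824234304
/-- The coordinates of `Z`. -/
def Zl : List ℕ := [0, 210, 344, 394, 538, 712, 834, 912]

/-- The 276 duads. -/
def dum : ℕ := 0x2100008048010001071801000100204800001400001082004100002200840000008188e10007118041000088002100004200008024010004d04240004000081400020010002084000180400810000200024080018008e080200108000400801012000088004100080000240e880800120b24020002008010420000180010117040020404d0404020018010024000080004240d42400004020000840b220200180010008042010000200402000400801100002400008800104800001200101172008b22004102000088e20080008400101002040008008014008000120010117004024000200008110080001800101170820000140010117000181170117177e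
/-- The 512 vectors of `V0`. -/
def v0m : ℕ := 0x11444411114444114411114444111144441111444411114411444411114444114411114444111144114444111144441111444411114444114411114444111144441111444411114411444411114444111144441111444411441111444411114411444411114444114411114444111144441111444411114411444411114444111144441111444411441111444411114444111144441111441144441111444411441111444411114411444411114444111144441111444411441111444411114444111144441111441144441111444411114444111144441144111144441111441144441111444411441111444411114444111144441111441144441111444411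
/-- The 64 vectors fixed by `go.E`. -/
def d6m : ℕ := 0x10100000000400000000000004000001000001000000400000000040000000000404000000100000000000001000004000004000000001000000000100400000000000004000000001010000000004000000000400000010000010000001000000000000010000004040000000001000000000100000000400000400000040000000004000000001000001000004000000000000040000001010000000000100000000010000004000004000001000000000000010000000040400000000001000001000000004000000000400000000010100000040000000000000400000040000040000001000000000100000000040400000000100000000000001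
/-- The orbit of `1` under `Tr` (192 duads). -/
def o192 : ℕ := 0x2100008048010001060801000000200800000000000082004100002200800000008088a10006018041000088002100004200008020010000904240000000081000020010002080000180000800000200020080008008a080200008000400801002000088000100080000200a880800120a24020002008010420000080010106040020404c0000020008000020000080004240902000000020000840a220200080000008002000000200002000000800000002400008800000800001200000132008a22000002000088a20080008000000002040008008000008000120000013000020000200008010080001800000130820000100000013000181060013136e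

theorem inH_cx : InH Tr cx := inH_Tr (by decide +kernel)
theorem inH_cy : InH Tr cy := inH_Tr (by decide +kernel)
theorem inH_eT' {b : ℕ} (hb : b < 1024) : InH Tr (eT b) := (inH_eT hb).mono Th_le_Tr

theorem lt_of_Zl {a : ℕ} (h : a ∈ Zl) : a < 2048 := by revert a; decide

/-- The configuration. -/
structure Tri (G : Type*) [Group G] where
  /-- `2^11` -/
  V : Subgroup G
  /-- `N(Z)` -/
  K : Subgroup G
  /-- `2^3` -/
  Z : Subgroup G
  /-- `2^10` -/
  A : Subgroup G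
  /-- `N_K(V)` -/
  Y : Subgroup G
  /-- coordinates on `V` -/
  f : ℕ → G
  /-- the map onto the trio group -/
  π : Y →* M24
  /-- the sign of the image in `S₅` -/
  ε : K →* ℤˣ
  /-- an involution with sign `-1` -/
  s : G
  /-- an element of `C(Z)` outside `N(V)` -/
  r : G
  Y_eq : Y = K ⊓ normalizer (V : Set G)
  range : π.range = Tr
  ker : ∀ m, π m = 1 ↔ (m : G) ∈ V
  mem : ∀ g, g ∈ V ↔ ∃ a < 2048, f a = g
  inj : ∀ a < 2048, ∀ b < 2048, f a = f b → a = b
  mul : ∀ a < 2048, ∀ b < 2048, f (a ^^^ b) = f a * f b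
  conj : ∀ m : Y, ∀ a < 2048, (m : G) * f a * (m : G)⁻¹ = f (co.act (cd (π m)) a)
  cent : centralizer (V : Set G) ≤ V
  V_le : V ≤ K
  K_eq : K = normalizer (Z : Set G)
  mem_Z : ∀ g, g ∈ Z ↔ ∃ a ∈ Zl, f a = g
  ε_V : ∀ k : K, (k : G) ∈ V → ε k = 1
  ε_s : ∀ k : K, (k : G) = s → ε k = -1
  s_mem : s ∈ A
  A_le : ∀ a ∈ A, ∃ m : Y, (m : G) = a ∧ π m ∈ Th
  A_sq : ∀ a ∈ A, a * a = 1
  card_A : Nat.card A = 1024
  Z_le : Z ≤ A
  r_comm : ∀ z ∈ Z, r * z = z * r
  r_not : r ∉ normalizer (V : Set G)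
  inter : ∀ c ∈ K, c ∉ normalizer (V : Set G) →
    Nat.card (cj c V ⊓ normalizer (V : Set G) : Subgroup G) ≤ 512
  fuse : ¬ normalizer (A : Set G) ≤ K → ∃ g : G, ∃ z ∈ Z, g * z * g⁻¹ ∈ V ∧ g * z * g⁻¹ ∉ Z

namespace Tri
variable {G : Type*} [Group G] (S : Tri G)

/-- `M = N(V)`. -/
abbrev M : Subgroup G := normalizer (S.V : Set G)

theorem mem_Y {g : G} : g ∈ S.Y ↔ g ∈ S.K ∧ g ∈ S.M := by rw [S.Y_eq]; rfl
theorem Y_le_K : S.Y ≤ S.K := fun _ h => (S.mem_Y.1 h).1
theorem Y_le_M : S.Y ≤ S.M := fun _ h => (S.mem_Y.1 h).2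
theorem V_le_M : S.V ≤ S.M := le_normalizer
theorem V_le_Y : S.V ≤ S.Y := fun _ h => S.mem_Y.2 ⟨S.V_le h, S.V_le_M h⟩

open Classical in
/-- The map `Y → M24` as a total function. -/
noncomputable def p (g : G) : M24 := if h : g ∈ S.Y then S.π ⟨g, h⟩ else 1

theorem p_eq {g : G} (h : g ∈ S.Y) : S.p g = S.π ⟨g, h⟩ := dif_pos h
theorem p_coe (m : S.Y) : S.p m = S.π m := S.p_eq m.2

theorem p_mul {x y : G} (hx : x ∈ S.Y) (hy : y ∈ S.Y) : S.p (x * y) = S.p x * S.p y := by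
  rw [S.p_eq hx, S.p_eq hy, S.p_eq (mul_mem hx hy), ← map_mul]; rfl

theorem p_one : S.p 1 = 1 := by rw [S.p_eq (one_mem _)]; exact map_one S.π

theorem p_inv {x : G} (hx : x ∈ S.Y) : S.p x⁻¹ = (S.p x)⁻¹ := by
  rw [S.p_eq hx, S.p_eq (inv_mem hx), ← map_inv]; rfl

theorem p_conj {x y : G} (hx : x ∈ S.Y) (hy : y ∈ S.Y) :
    S.p (x * y * x⁻¹) = S.p x * S.p y * (S.p x)⁻¹ := by
  rw [S.p_mul (mul_mem hx hy) (inv_mem hx), S.p_mul hx hy, S.p_inv hx]

theorem p_eq_one {x : G} (hx : x ∈ S.Y) : S.p x = 1 ↔ x ∈ S.V := by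
  rw [S.p_eq hx]; exact S.ker _

theorem p_of_mem {x : G} (hx : x ∈ S.V) : S.p x = 1 := (S.p_eq_one (S.V_le_Y hx)).2 hx

theorem p_mem {x : G} (hx : x ∈ S.Y) : S.p x ∈ Tr := by
  rw [S.p_eq hx, ← S.range]; exact ⟨_, rfl⟩

theorem exists_p {g : M24} (hg : g ∈ Tr) : ∃ m ∈ S.Y, S.p m = g := by
  rw [← S.range] at hg
  obtain ⟨m, rfl⟩ := hg
  exact ⟨m, m.2, S.p_coe m⟩

theorem p_eq_iff {x y : G} (hx : x ∈ S.Y) (hy : y ∈ S.Y) : S.p x = S.p y ↔ x * y⁻¹ ∈ S.V := by
  rw [← S.p_eq_one (mul_mem hx (inv_mem hy)), S.p_mul hx (inv_mem hy), S.p_inv hy,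
    mul_inv_eq_one]

theorem f_mem {a : ℕ} (ha : a < 2048) : S.f a ∈ S.V := (S.mem _).2 ⟨a, ha, rfl⟩

theorem exists_f {v : G} (hv : v ∈ S.V) : ∃ a < 2048, S.f a = v := (S.mem v).1 hv

theorem f_zero : S.f 0 = 1 := by
  have := S.mul 0 (by norm_num) 0 (by norm_num)
  rw [Nat.xor_self] at this
  exact mul_eq_left.1 this.symm

theorem f_eq_one {a : ℕ} (ha : a < 2048) : S.f a = 1 ↔ a = 0 :=
  ⟨fun h => S.inj a ha 0 (by norm_num) (h.trans S.f_zero.symm), fun h => h ▸ S.f_zero⟩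

theorem f_inj {a b : ℕ} (ha : a < 2048) (hb : b < 2048) : S.f a = S.f b ↔ a = b :=
  ⟨S.inj a ha b hb, fun h => h ▸ rfl⟩

theorem f_mem_Z {a : ℕ} (ha : a < 2048) : S.f a ∈ S.Z ↔ a ∈ Zl := by
  rw [S.mem_Z]
  exact ⟨fun ⟨b, hb, e⟩ => S.inj b (lt_of_Zl hb) a ha e ▸ hb, fun h => ⟨a, h, rfl⟩⟩

theorem Z_le_V : S.Z ≤ S.V := fun _ h => by
  obtain ⟨a, ha, rfl⟩ := (S.mem_Z _).1 h
  exact S.f_mem (lt_of_Zl ha)

theorem cent_Z {c : G} (h : ∀ z ∈ S.Z, c * z = z * c) : c ∈ S.K := by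
  rw [S.K_eq]
  exact centralizer_le_normalizer _ (mem_centralizer_iff.2 fun z hz => (h z hz).symm)

theorem mul_self {v : G} (hv : v ∈ S.V) : v * v = 1 := by
  obtain ⟨a, ha, rfl⟩ := S.exists_f hv
  rw [← S.mul a ha a ha, Nat.xor_self, S.f_zero]

theorem inv_eq {v : G} (hv : v ∈ S.V) : v⁻¹ = v := inv_eq_of_mul_eq_one_right (S.mul_self hv)

theorem comm {v w : G} (hv : v ∈ S.V) (hw : w ∈ S.V) : v * w = w * v := by
  obtain ⟨a, ha, rfl⟩ := S.exists_f hv
  obtain ⟨b, hb, rfl⟩ := S.exists_f hw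
  rw [← S.mul a ha b hb, ← S.mul b hb a ha, Nat.xor_comm]

theorem conj_f {m : G} (hm : m ∈ S.Y) {a : ℕ} (ha : a < 2048) :
    m * S.f a * m⁻¹ = S.f (co.act (cd (S.p m)) a) := by
  rw [S.p_eq hm]; exact S.conj ⟨m, hm⟩ a ha

theorem conj_mem {m v : G} (hm : m ∈ S.M) (hv : v ∈ S.V) : m * v * m⁻¹ ∈ S.V :=
  (mem_normalizer_iff.1 hm v).1 hv

/-- The commutator of `m ∈ Y` with a vector. -/
theorem comm_f {m : G} (hm : m ∈ S.Y) {a : ℕ} (ha : a < 2048) :
    ⁅m, S.f a⁆ = S.f (co.act (cd (S.p m)) a ^^^ a) := by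
  rw [commutatorElement_def, S.conj_f hm ha, S.mul _ (co.act_lt _ _) a ha, S.inv_eq (S.f_mem ha)]

theorem comm_f_iff {m : G} (hm : m ∈ S.Y) {a : ℕ} (ha : a < 2048) :
    m * S.f a = S.f a * m ↔ co.act (cd (S.p m)) a = a := by
  rw [← S.f_inj (co.act_lt _ _) ha, ← S.conj_f hm ha, mul_inv_eq_iff_eq_mul]

theorem mem_of_comm {g : G} (h : ∀ v ∈ S.V, v * g = g * v) : g ∈ S.V :=
  S.cent (mem_centralizer_iff.2 h)

theorem card_V : Nat.card S.V = 2048 := card_of_inj S.mem S.inj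

theorem isPGroup_V : IsPGroup 2 S.V := IsPGroup.of_card (n := 11) S.card_V

/-- The number of vectors in a subgroup of `V`. -/
theorem card_eq_filter {A : Subgroup G} (hA : A ≤ S.V) (P : ℕ → Prop) [DecidablePred P]
    (h : ∀ a < 2048, S.f a ∈ A ↔ P a) :
    Nat.card A = ((Finset.range 2048).filter P).card := by
  rw [← Fintype.card_coe, ← Nat.card_eq_fintype_card]
  refine (Nat.card_congr (Equiv.ofBijective
    (fun a : {a // a ∈ (Finset.range 2048).filter P} => (⟨S.f a, (h _ (Finset.mem_range.1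
      (Finset.mem_filter.1 a.2).1)).2 (Finset.mem_filter.1 a.2).2⟩ : A)) ⟨fun a b e => ?_,
      fun v => ?_⟩)).symm
  · exact Subtype.ext (S.inj _ (Finset.mem_range.1 (Finset.mem_filter.1 a.2).1) _
      (Finset.mem_range.1 (Finset.mem_filter.1 b.2).1) (congrArg Subtype.val e))
  · obtain ⟨a, ha, e⟩ := S.exists_f (hA v.2)
    exact ⟨⟨a, Finset.mem_filter.2 ⟨Finset.mem_range.2 ha, (h a ha).1 (e ▸ v.2)⟩⟩, Subtype.ext e⟩

/-- The preimage in `Y` of a subgroup of `M24`. -/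
def pre (X : Subgroup M24) : Subgroup G := (X.comap S.π).map S.Y.subtype

theorem mem_pre {X : Subgroup M24} {g : G} : g ∈ S.pre X ↔ g ∈ S.Y ∧ S.p g ∈ X := by
  constructor
  · rintro ⟨m, hm, rfl⟩
    exact ⟨m.2, by rw [coe_subtype, S.p_coe]; exact hm⟩
  · rintro ⟨h1, h2⟩
    exact ⟨⟨g, h1⟩, by rw [S.p_eq h1] at h2; exact h2, rfl⟩

theorem pre_le_Y (X : Subgroup M24) : S.pre X ≤ S.Y := fun _ h => (S.mem_pre.1 h).1

theorem V_le_pre (X : Subgroup M24) : S.V ≤ S.pre X := fun _ h =>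
  S.mem_pre.2 ⟨S.V_le_Y h, by rw [S.p_of_mem h]; exact one_mem _⟩

theorem pre_mono {X Y : Subgroup M24} (h : X ≤ Y) : S.pre X ≤ S.pre Y := fun _ hg =>
  S.mem_pre.2 ⟨(S.mem_pre.1 hg).1, h (S.mem_pre.1 hg).2⟩

theorem exists_pre {X : Subgroup M24} (hX : X ≤ Tr) {g : M24} (hg : g ∈ X) :
    ∃ m ∈ S.pre X, S.p m = g := by
  obtain ⟨m, hm, e⟩ := S.exists_p (hX hg)
  exact ⟨m, S.mem_pre.2 ⟨hm, e ▸ hg⟩, e⟩

/-- The image in `M24` of (the intersection with `Y` of) a subgroup. -/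
def im (A : Subgroup G) : Subgroup M24 := (A.subgroupOf S.Y).map S.π

theorem mem_im {A : Subgroup G} {g : M24} : g ∈ S.im A ↔ ∃ x ∈ A, x ∈ S.Y ∧ S.p x = g := by
  constructor
  · rintro ⟨m, hm, rfl⟩
    exact ⟨m, hm, m.2, S.p_coe m⟩
  · rintro ⟨x, hx, hm, rfl⟩
    exact ⟨⟨x, hm⟩, hx, (S.p_eq hm).symm⟩

theorem p_mem_im {A : Subgroup G} {x : G} (hx : x ∈ A) (hm : x ∈ S.Y) : S.p x ∈ S.im A :=
  S.mem_im.2 ⟨x, hx, hm, rfl⟩

theorem im_le {A : Subgroup G} {X : Subgroup M24} (h : A ≤ S.pre X) : S.im A ≤ X := fun g hg => by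
  obtain ⟨x, hx, -, rfl⟩ := S.mem_im.1 hg
  exact (S.mem_pre.1 (h hx)).2

theorem im_pre {X : Subgroup M24} (hX : X ≤ Tr) : S.im (S.pre X) = X :=
  le_antisymm (S.im_le le_rfl) fun g hg => by
    obtain ⟨m, hm, e⟩ := S.exists_pre hX hg
    exact S.mem_im.2 ⟨m, hm, S.pre_le_Y X hm, e⟩

theorem card_eq_im {A : Subgroup G} (hA : A ≤ S.Y) :
    Nat.card A = Nat.card (S.im A) * Nat.card (A ⊓ S.V : Subgroup G) := by
  let φ : A →* M24 := S.π.comp (inclusion hA)
  have h1 : φ.range = S.im A := by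
    ext g
    rw [mem_im]
    constructor
    · rintro ⟨x, rfl⟩; exact ⟨x, x.2, hA x.2, S.p_eq (hA x.2)⟩
    · rintro ⟨x, hx, hm, rfl⟩; exact ⟨⟨x, hx⟩, (S.p_eq hm).symm⟩
  have h2 : φ.ker = (A ⊓ S.V).subgroupOf A := by
    ext x
    rw [MonoidHom.mem_ker, mem_subgroupOf, mem_inf]
    exact (S.ker _).trans ⟨fun h => ⟨x.2, h⟩, fun h => h.2⟩
  rw [← h1, ← Nat.card_congr (QuotientGroup.quotientKerEquivRange φ).toEquiv,
    ← Nat.card_congr (subgroupOfEquivOfLe (inf_le_left : A ⊓ S.V ≤ A)).toEquiv, ← h2]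
  exact card_eq_card_quotient_mul_card_subgroup _

theorem card_pre {X : Subgroup M24} (hX : X ≤ Tr) : Nat.card (S.pre X) = Nat.card X * 2048 := by
  rw [S.card_eq_im (S.pre_le_Y X), S.im_pre hX, inf_eq_right.2 (S.V_le_pre X), S.card_V]

theorem pre_Tr : S.pre Tr = S.Y :=
  le_antisymm (S.pre_le_Y _) fun _ h => S.mem_pre.2 ⟨h, S.p_mem h⟩

theorem card_Y : Nat.card S.Y = 64512 * 2048 := by rw [← S.pre_Tr, S.card_pre le_rfl, card_Tr]

/-- The 2-central involution. -/
def z : G := S.f 834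

theorem z_mem_Z : S.z ∈ S.Z := (S.f_mem_Z (by norm_num)).2 (by decide)
theorem z_mem : S.z ∈ S.V := S.Z_le_V S.z_mem_Z
theorem z_ne : S.z ≠ 1 := fun h => absurd ((S.f_eq_one (by norm_num)).1 h) (by norm_num)
theorem z_sq : S.z * S.z = 1 := S.mul_self S.z_mem

theorem f_mem_zpowers_z {a : ℕ} (ha : a < 2048) : S.f a ∈ zpowers S.z ↔ a = 0 ∨ a = 834 := by
  rw [← S.f_eq_one ha, ← S.f_inj ha (by norm_num : 834 < 2048)]
  exact ⟨zp_cases S.z_sq, fun h => h.elim (fun e => e ▸ one_mem _) fun e => e ▸ mem_zpowers _⟩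

/-- `H = C(z)`. -/
abbrev H : Subgroup G := centralizer ({S.z} : Set G)

theorem mem_H {g : G} : g ∈ S.H ↔ g * S.z = S.z * g := by
  rw [mem_centralizer_singleton_iff]

theorem r_mem_H : S.r ∈ S.H := S.mem_H.2 (S.r_comm _ S.z_mem_Z)

/-- A Sylow 2-subgroup. -/
noncomputable def T : Subgroup G := S.pre Th

theorem card_T : Nat.card S.T = 2 ^ 21 := by rw [T, S.card_pre Th_le_Tr, card_Th]; norm_num
theorem isPGroup_T : IsPGroup 2 S.T := IsPGroup.of_card S.card_T
theorem T_le_Y : S.T ≤ S.Y := S.pre_le_Y _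
theorem V_le_T : S.V ≤ S.T := S.V_le_pre _

theorem T_le_H : S.T ≤ S.H := fun _ hg => S.mem_H.2
  ((S.comm_f_iff (S.T_le_Y hg) (by norm_num)).2 ((co.mem_S0' _).1 (Th_le_co (S.mem_pre.1 hg).2)))

theorem A_le_T : S.A ≤ S.T := fun a ha => by
  obtain ⟨m, rfl, h⟩ := S.A_le a ha
  exact S.mem_pre.2 ⟨m.2, by rwa [S.p_coe]⟩

theorem isPGroup_im {A : Subgroup G} (hA : IsPGroup 2 A) : IsPGroup 2 (S.im A) :=
  (hA.comap_subtype).map _

theorem im_sq {B : Subgroup G} (h : ∀ b ∈ B, b * b ∈ S.V) : ∀ g ∈ S.im B, g * g = 1 := fun g hg => by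
  obtain ⟨x, hx, hm, rfl⟩ := S.mem_im.1 hg
  rw [← S.p_mul hm hm, S.p_of_mem (h x hx)]

theorem le_V_of_im {B : Subgroup G} (hB : B ≤ S.Y) (h : S.im B = ⊥) : B ≤ S.V := fun _ hx =>
  (S.p_eq_one (hB hx)).1 (mem_bot.1 (h ▸ S.p_mem_im hx (hB hx)))

/-- A 2-subgroup of `Y` is conjugate in `Y` into `T`. -/
theorem cj_le_T {A : Subgroup G} (hA : A ≤ S.Y) (h2 : IsPGroup 2 A) : ∃ m ∈ S.Y, cj m A ≤ S.T := by
  obtain ⟨g, hg, h⟩ := exists_conj_le_Th Th_le_Tr (X := S.im A) (S.im_le (S.pre_Tr ▸ hA))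
    (S.isPGroup_im h2)
  obtain ⟨m, hm, rfl⟩ := S.exists_p hg
  refine ⟨m, hm, ?_⟩
  rintro _ ⟨x, hx, rfl⟩
  exact S.mem_pre.2 ⟨mul_mem (mul_mem hm (hA hx)) (inv_mem hm), by
    show S.p (m * x * m⁻¹) ∈ Th
    rw [S.p_conj hm (hA hx)]; exact h _ (S.p_mem_im hx (hA hx))⟩

/-- The vectors conjugate to `f b` in `M`. -/
def Or (b a : ℕ) : Prop := ∃ m ∈ S.M, m * S.f b * m⁻¹ = S.f a

theorem Or.refl (b : ℕ) : S.Or b b := ⟨1, one_mem _, by simp⟩

theorem Or.symm {S : Tri G} {a b : ℕ} (h : S.Or a b) : S.Or b a := by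
  obtain ⟨m, hm, e⟩ := h
  exact ⟨m⁻¹, inv_mem hm, by rw [← e]; group⟩

theorem Or.trans {S : Tri G} {a b c : ℕ} (h : S.Or a b) (h' : S.Or b c) : S.Or a c := by
  obtain ⟨m, hm, e⟩ := h
  obtain ⟨n, hn, e'⟩ := h'
  exact ⟨n * m, mul_mem hn hm, by rw [← e', ← e]; group⟩

theorem or_act {c : ℕ} (hc : InH Tr c) {a : ℕ} (ha : a < 2048) : S.Or a (co.act c a) := by
  obtain ⟨g, hg, rfl⟩ := hc
  obtain ⟨m, hm, rfl⟩ := S.exists_p hg
  exact ⟨m, S.Y_le_M hm, S.conj_f hm ha⟩

theorem Or.ne_zero {S : Tri G} {a b : ℕ} (h : S.Or a b) (ha : a < 2048) (h0 : a ≠ 0) : b ≠ 0 := by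
  rintro rfl
  obtain ⟨m, -, e⟩ := h
  rw [S.f_zero, mul_inv_eq_one, mul_eq_left] at e
  exact h0 ((S.f_eq_one ha).1 e)

end Tri

end Cfsg.Agent.PJ
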