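import Cfsg.Agent.PJ.Defs
import Cfsg.Agent.R24.Lin

/-!
# S3321: the orbit of `z` under `M = N(V)`
The codes `cx, eT 434, cy, eT 4` lie in `Tr` (`inH_cx, inH_eT', inH_cy`; use `or_act`).  Their orbits on
`1..2047` have lengths/representatives `7/834, 84/4, 84/56, 192/1, 336/14, 1344/7`; with the masks
of `Defs`: `v0m = 0 ∪ 7 ∪ 84 ∪ 84 ∪ 336`, `dum = 84/4 ∪ 192`, `o192`, so the class `cls a` below is
computable.  Certify `or_cls` by a parent table (python: `tools/m24py/m24.py`, the action is
`ccrd(img(g, cvec a))`; BFS from the representatives, for each `a` a parent `b` of smaller depth and a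
generator `c` with `co.act c b = a`; `fa (co.ft c)` of R24/Tr is a fast `act`), strong induction on depth.
`reg`: `O a := S.Or 834 a` satisfies `O a ↔ O (cls a)`, `¬ O 0`.  `reg_eq` (PJ/Bw, `n = 11`): for `v`
with `O v` the number of `c` with `O c ∧ O (v ^^^ c)` is that for `834`.  Case on
`O 4, O 56, O 1, O 14, O 7` (32 cases, index `m` = bits in this order): with the mask `Sm` of the
union, `cnt (Sm &&& xl Sm v)` (R24/Lin) is the same for `834` and all representatives only if
`m ∈ {0, 11, 26, 31}` (one `decide +kernel`).  `m = 0`: every `n ∈ M` maps `Z \\ 1 = Y`-conjugates of `z`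
into `Z`, so `M ≤ N(Z) = K`.
-/

set_option autoImplicit false
set_option linter.unusedSectionVars false

namespace Cfsg.Agent.PJ

open Cfsg Cfsg.Agent.Comp Cfsg.Agent.Spor Cfsg.Agent.Spor.M24C Cfsg.Agent.R24 Subgroup
open scoped Pointwise commutatorElement

/-- The orbit of `56`. -/
def o84 : ℕ := 0x10100000000400000000010000000000040000004400400000000000000000010004000000100000000000001000004000000000000001000040000100000000000000000000004001000044001100000001000000000000000010000000440000004000010000000000000000000000000000100000000410000400000040000000004001000100000010010404000000000101000000001001040400000011000001000400000000010404000000000001040410400000044000000000000000000101040000440001040000100000011004040000000000040000400004000001400400001000000400100000000040040000000100000000000000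

/-- The representative of the `Tr`-orbit of `a`. -/
def cls (a : ℕ) : ℕ :=
  if a = 0 then 0 else if a ∈ Zl then 834 else if o192.testBit a then 1
  else if dum.testBit a then 4 else if ¬ v0m.testBit a then 7
  else if o84.testBit a then 56 else 14

namespace RG

/-- For every vector the index of a generator that moves it towards its representative. -/
def TG : ℕ := 0x13433432141113311111121311114311121111342343123241112143311242133311113211231223114234431214313211113132131332111443311232133112211311211412431412122111331211131114113112121211213344412134311111211312111111321111121313231331342144111133131211133321113131122113121444122211131331114211214211313113113313114113311321143113131311111111221231131333131311221112331143333211123211143311341111113411111232331113111131112212131133411111111411211111224333432314433111443131112113113114234131431423121313131412431131321241112114111313123112313321234412314243113334311311311111422131244312111321121143421112133112214421112234212133324231132134342331211111133111131114413343111332131113132331311341113213212331114211411413431431111112111311331111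342233123341411343431121112142113114111311411211112213112313323312131343111133142431141113434244231311121411311431121411311112113331421131331113221313143312124311344311131121112313114212114313131421423413211113141332113312121313223413123311331112131311113313131111221242111411323423111321133121111231331113123131333111431121312142331212131112121112123213321312331433211131333231133423331111221221111113111231343113332311113113341323414121341143343331113332113323321314114213344410322212441111411323113321323123312214111414122313131131231341213212213111131444421114211141121312431133121312313313311311131132131322121311121441111111324413213432131233112141431121441144241244123231323111332114123313331132432111341333123213441211231133413232113213131111333232213313243221323113331323213342134133121232224313433133111242134411113243123313112212121111133411213113213213231341314331132114113121143311312244314424114413142314234431333112321113131213114111131133114314112311331313111111114321323423421241421113213113114114131322331112134333333341131231123112233122313331321213311112142111331313123112143123111233143211311334314442311113113211121132313111111111311231111113143312121142121211121142443113131131131111334111111211111311324131111213121332113322411211211033121311223442221343312411111142311112411034322301101200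

/-- Selection of one of five numbers. -/
noncomputable def sel (a b c d e i : ℕ) : ℕ :=
  ite' (Nat.beq i 0) a (ite' (Nat.beq i 1) b (ite' (Nat.beq i 2) c (ite' (Nat.beq i 3) d e)))

/-- The generators. -/
noncomputable def gc (i : ℕ) : ℕ := sel (eT 0) cx (eT 434) cy (eT 4) i

theorem inH_gc (i : ℕ) : InH Tr (gc i) := by
  simp only [gc, sel, ite'_eq]
  split_ifs
  exacts [inH_eT' (by norm_num), inH_cx, inH_eT' (by norm_num), inH_cy, inH_eT' (by norm_num)]

/-- `n` steps towards the representative. -/
noncomputable def nx (T : ℕ → ℕ) (a n : ℕ) : ℕ :=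
  Nat.rec (motive := fun _ => ℕ) a (fun _ ih => force ih fun b => fa (T (dig 4 15 TG b)) b) n

theorem nx_succ (T : ℕ → ℕ) (a n : ℕ) :
    nx T a (n + 1) = fa (T (dig 4 15 TG (nx T a n))) (nx T a n) :=
  force_eq (nx T a n) fun b => fa (T (dig 4 15 TG b)) b

theorem tree : (force (co.ft (eT 0)) fun a => force (co.ft cx) fun b => force (co.ft (eT 434)) fun c =>
    force (co.ft cy) fun d => force (co.ft (eT 4)) fun e =>
      allB 2048 fun v => Nat.beq (nx (sel a b c d e) v 13) (cls v)) = true := by decide +kernel

/-- The union of the orbits selected by `P`. -/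
noncomputable def msk (P : ℕ → Bool) : ℕ :=
  orLT 2048 fun a => ite' (P (cls a)) (Nat.shiftLeft 1 a) 0

theorem testBit_msk (P : ℕ → Bool) (a : ℕ) :
    (msk P).testBit a = true ↔ a < 2048 ∧ P (cls a) = true := by
  rw [msk, testBit_orLT]
  refine ⟨fun ⟨i, hi, h⟩ => ?_, fun h => ⟨a, h.1, ?_⟩⟩
  · rw [ite'_eq] at h
    split_ifs at h with e
    · rw [Nat.shiftLeft_eq', Nat.one_shiftLeft, Nat.testBit_two_pow, decide_eq_true_eq] at h
      exact h ▸ ⟨hi, e⟩
    · simp at h
  · rw [h.2, ite'_true, Nat.shiftLeft_eq', Nat.one_shiftLeft, Nat.testBit_two_pow_self]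

/-- A union of orbits. -/
noncomputable def P (i j k l n : Bool) (r : ℕ) : Bool :=
  or' (Nat.beq r 834) (or' (and' i (Nat.beq r 4)) (or' (and' j (Nat.beq r 56))
    (or' (and' k (Nat.beq r 1)) (or' (and' l (Nat.beq r 14)) (and' n (Nat.beq r 7))))))

/-- The number of ways to write `v` as a sum of two elements of `M`. -/
noncomputable def ct (M v : ℕ) : ℕ := force (Nat.land M (xl M v)) (pop 2048)

theorem ct_eq (Q : ℕ → Bool) {v : ℕ} (hv : v < 2048) : ct (msk Q) v = ((Finset.range 2048).filter
    fun c => Q (cls c) = true ∧ Q (cls (v ^^^ c)) = true).card := by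
  rw [ct, force_eq, pop_eq]
  refine congrArg Finset.card (Finset.filter_congr fun c hc => ?_)
  rw [Finset.mem_range] at hc
  rw [Nat.land_eq, Nat.testBit_and, Bool.and_eq_true, testBit_xl hv, testBit_msk, testBit_msk,
    Nat.xor_comm]
  exact ⟨fun h => ⟨h.1.2, h.2.2.2⟩, fun h => ⟨⟨hc, h.1⟩, hc, xor_lt hv hc, h.2⟩⟩

theorem ct_ne : ∀ i j k l n : Bool, (force (msk (P i j k l n)) fun M => force (ct M 834) fun c =>
    or' (and' i (not' (Nat.beq c (ct M 4)))) (or' (and' j (not' (Nat.beq c (ct M 56))))
    (or' (and' k (not' (Nat.beq c (ct M 1)))) (or' (and' l (not' (Nat.beq c (ct M 14))))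
    (or' (and' n (not' (Nat.beq c (ct M 7))))
      (decide ([i, j, k, l, n] ∈ [[false, false, false, false, false], [true, true, false, true, false],
        [false, true, false, true, true], [true, true, true, true, true]]))))))) = true := by
  decide +kernel

theorem fin : allB 2048 (fun a => force (cls a) fun r =>
    and' (decide (P false false false false false r = true → a ∈ Zl))
    (and' (decide (P true true false true false r = true ↔ a ≠ 0 ∧ v0m.testBit a = true))
    (and' (decide (P false true false true true r = true ↔ a ≠ 0 ∧ dum.testBit a = false))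
    (decide (a ≠ 0 → P true true true true true r = true))))) = true := by decide +kernel

theorem cls_mem (a : ℕ) : cls a ∈ [0, 834, 4, 56, 1, 14, 7] := by
  unfold cls
  split_ifs <;> simp

end RG

namespace Tri
variable {G : Type*} [Group G] [Finite G] (S : Tri G)

theorem or_nx {a : ℕ} (ha : a < 2048) (n : ℕ) : RG.nx (fun i => co.ft (RG.gc i)) a n < 2048 ∧
    S.Or a (RG.nx (fun i => co.ft (RG.gc i)) a n) := by
  induction n with
  | zero => exact ⟨ha, Or.refl S a⟩
  | succ n ih =>
    rw [RG.nx_succ]
    have h := RG.inH_gc (dig 4 15 RG.TG (RG.nx (fun i => co.ft (RG.gc i)) a n))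
    have k := S.or_act h ih.1
    obtain ⟨g, -, e⟩ := h
    have l := co.fa_ft g ih.1
    rw [show cd g = _ from e] at l
    exact ⟨l ▸ co.act_lt _ _, ih.2.trans (l ▸ k)⟩

theorem or_cls {a : ℕ} (ha : a < 2048) : S.Or (cls a) a := by
  have h := RG.tree
  simp only [force_eq, allB_iff, beq_iff] at h
  have e : RG.sel (co.ft (eT 0)) (co.ft cx) (co.ft (eT 434)) (co.ft cy) (co.ft (eT 4)) =
      fun i => co.ft (RG.gc i) := funext fun i => by
    simp only [RG.gc, RG.sel, ite'_eq]
    split_ifs <;> rfl
  rw [← h a ha, e]
  exact (S.or_nx ha 13).2.symm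

theorem reg (hM : ¬ S.M ≤ S.K) :
    (∀ a < 2048, S.Or 834 a ↔ a ≠ 0 ∧ v0m.testBit a = true) ∨
    (∀ a < 2048, S.Or 834 a ↔ a ≠ 0 ∧ dum.testBit a = false) ∨
    (∀ a < 2048, a ≠ 0 → S.Or 834 a) := by
  classical
  have tr : ∀ {a b}, S.Or a b → (S.Or 834 a ↔ S.Or 834 b) := fun h =>
    ⟨fun k => k.trans h, fun k => k.trans h.symm⟩
  have h0 : ¬ S.Or 834 0 := fun h => h.ne_zero (by norm_num) (by norm_num) rfl
  obtain ⟨Q, hQ⟩ : ∃ Q, Q = RG.P (decide (S.Or 834 4)) (decide (S.Or 834 56)) (decide (S.Or 834 1))
    (decide (S.Or 834 14)) (decide (S.Or 834 7)) := ⟨_, rfl⟩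
  have key : ∀ a < 2048, S.Or 834 a ↔ Q (cls a) = true := fun a ha => by
    rw [← tr (S.or_cls ha), hQ]
    have := RG.cls_mem a
    generalize cls a = r at this ⊢
    simp only [List.mem_cons, List.not_mem_nil, or_false] at this
    rcases this with rfl | rfl | rfl | rfl | rfl | rfl | rfl <;>
      simp [RG.P, h0, Or.refl]
  have eq : ∀ v < 2048, S.Or 834 v → RG.ct (RG.msk Q) 834 = RG.ct (RG.msk Q) v := by
    rintro v hv ⟨n, hn, e⟩
    have := reg_eq (n := 11) S.mem S.inj S.mul hn (S.Or 834) (fun a _ b _ l => tr ⟨n, hn, l⟩)
      (by norm_num) hv e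
    have c : ∀ w < 2048, RG.ct (RG.msk Q) w =
        ((Finset.range (2 ^ 11)).filter fun c => S.Or 834 c ∧ S.Or 834 (w ^^^ c)).card := fun w hw =>
      (RG.ct_eq Q hw).trans (congrArg Finset.card (Finset.filter_congr fun c hc => by
        rw [key c (Finset.mem_range.1 hc), key _ (xor_lt hw (Finset.mem_range.1 hc))]))
    rw [c 834 (by norm_num), c v hv, this]
  have h := RG.ct_ne (decide (S.Or 834 4)) (decide (S.Or 834 56)) (decide (S.Or 834 1))
    (decide (S.Or 834 14)) (decide (S.Or 834 7))
  rw [← hQ] at h
  simp only [force_eq, or'_eq_true, and'_eq_true, not'_eq_true, beq_iff] at h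
  have f := RG.fin
  simp only [force_eq, allB_iff, and'_eq_true, decide_eq_true_eq] at f
  rcases h with h | h | h | h | h | h
  iterate 5 exact absurd (eq _ (by norm_num) (of_decide_eq_true h.1)) h.2
  replace h := of_decide_eq_true h
  generalize decide (S.Or 834 4) = i, decide (S.Or 834 56) = j, decide (S.Or 834 1) = k,
    decide (S.Or 834 14) = l, decide (S.Or 834 7) = n at h hQ
  simp only [List.mem_cons, List.not_mem_nil, or_false, List.cons.injEq, and_true] at h
  subst hQ
  rcases h with ⟨rfl, rfl, rfl, rfl, rfl⟩ | ⟨rfl, rfl, rfl, rfl, rfl⟩ | ⟨rfl, rfl, rfl, rfl, rfl⟩ |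
    ⟨rfl, rfl, rfl, rfl, rfl⟩
  · refine absurd (fun n hn => ?_) hM
    rw [S.K_eq]
    refine mem_normalizer_fintype fun z hz => ?_
    obtain ⟨a, ha, rfl⟩ := (S.mem_Z z).1 hz
    obtain ⟨b, hb, e⟩ := S.exists_f (S.conj_mem hn (S.f_mem (lt_of_Zl ha)))
    change _ ∈ S.Z
    by_cases l : a = 0
    · rw [l, S.f_zero, mul_one, mul_inv_cancel]; exact one_mem _
    · have k := S.or_cls (lt_of_Zl ha)
      rw [cls, if_neg l, if_pos ha] at k
      exact e ▸ (S.f_mem_Z hb).2 ((f b hb).1 ((key b hb).1 (k.trans ⟨n, hn, e.symm⟩)))
  · exact .inl fun a ha => (key a ha).trans (f a ha).2.1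
  · exact .inr (.inl fun a ha => (key a ha).trans (f a ha).2.2.1)
  · exact .inr (.inr fun a ha l => (key a ha).2 ((f a ha).2.2.2 l))

end Tri

end Cfsg.Agent.PJ
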